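import Groth.Agent.Etbc.H502.IdealEt
import Groth.Agent.Etcore.OpenClosed
import Groth.Agent.Dix.EtaleSieve

/-!
# The Artin–Schreier sequence and closed immersions

For a closed immersion `i : Z ⟶ X` and `p = 0` on `X`:
* `epi_gaUnit`: `G_a,X ⟶ i_* G_a,Z` is epi;
* `asPush`: the morphism of Artin–Schreier sequences `AS_X ⟶ i_* AS_Z`;
* `shortExact_push`: `i_* AS_Z` is short exact;
* `shortExact_const`: `0 → j_! j⁻¹ ℤ/p → ℤ/p → i_* ℤ/p → 0` for an open complement `j`.
-/

set_option autoImplicit false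
universe u
open CategoryTheory CategoryTheory.Limits AlgebraicGeometry Opposite

namespace Groth.Agent.Etbc.H502.AsClosed

open Groth.Agent.Etbc.H187.GaFun Groth.Agent.Etbc.H502.IdealEt Groth.Agent.CurvesA
  Groth.Agent.CurvesA.ArtinSchreier
open scoped Groth.Agent.Etcore.EtInst Groth.Agent.Etcore.HC

variable {X Z : Scheme.{u}}

section ga

variable (i : Z ⟶ X) [IsClosedImmersion i]

/-- `G_a,X ⟶ i_* G_a,Z` is an epimorphism for a closed immersion `i`. -/
theorem epi_gaUnit : Epi (gaUnit i) := by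
  rw [Groth.Agent.Dix.EtaleSieve.epi_iff]
  intro U s x
  obtain ⟨W, hW, hxW⟩ : ∃ W : U.left.Opens, IsAffineOpen W ∧ x ∈ W := by
    obtain ⟨_, ⟨W, hW, rfl⟩, hxW, -⟩ := U.left.isBasis_affineOpens.exists_subset_of_mem_open
      (Set.mem_univ x) isOpen_univ
    exact ⟨W, hW, hxW⟩
  let V : X.Etale := Scheme.Etale.mk (W.ι ≫ U.hom)
  let g : V ⟶ U := MorphismProperty.Over.homMk W.ι rfl
  refine ⟨V, g, ⟨⟨x, hxW⟩, rfl⟩, ?_⟩
  have hVa : IsAffine V.left := hW
  have hci : IsClosedImmersion (bcFst i V) :=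
    MorphismProperty.pullback_fst (P := @IsClosedImmersion) _ _ inferInstance
  have hsurj : Function.Surjective (bcFst i V).appTop.hom :=
    (IsClosedImmersion.isAffine_surjective_of_isAffine (bcFst i V)).2
  obtain ⟨a, ha⟩ := hsurj (fnOf (X := Z) (U := (EtCoh.bc i).obj V)
    (((EtCoh.push i).obj (EtCoh.Ga Z)).obj.map g.op s))
  refine ⟨ofFn (X := X) (U := V) a, ?_⟩
  apply fnOf_injective (X := Z) (U := (EtCoh.bc i).obj V)
  rw [fnOf_gaUnit, fnOf_ofFn, ha]

/-- `0 → I → G_a → i_* G_a → 0`. -/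
theorem shortExact_ga :
    (ShortComplex.mk (idι i) (gaUnit i) (idι_comp i)).ShortExact where
  exact := exact_idι i
  mono_f := inferInstanceAs (Mono (idι i))
  epi_g := epi_gaUnit i

end ga

section as

variable (p : ℕ) [Fact p.Prime] (i : Z ⟶ X)

/-- The morphism `ℤ/p ⟶ i_* ℤ/p`. -/
noncomputable def cstUnit : EtCoh.const X (ZMod p) ⟶ (EtCoh.push i).obj (EtCoh.const Z (ZMod p)) :=
  (EtCoh.pullPushAdj i).unit.app (EtCoh.const X (ZMod p)) ≫
    (EtCoh.push i).map (EtCore.pullConst i (ZMod p)).hom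

/-- The morphism of Artin–Schreier sequences `AS_X ⟶ i_* AS_Z`. -/
noncomputable def asPush (hX : (p : Γ(X, ⊤)) = 0) (hZ : (p : Γ(Z, ⊤)) = 0) :
    asComplex X p hX ⟶ (asComplex Z p hZ).map (EtCoh.push i) where
  τ₁ := cstUnit p i
  τ₂ := gaUnit i
  τ₃ := gaUnit i
  comm₁₂ := by
    have h1 := (asHomC p i hX hZ).comm₁₂
    change (EtCore.pullConst i (ZMod p)).hom ≫ constMap Z p hZ =
      (EtCoh.pull i).map (constMap X p hX) ≫ gap i at h1
    change ((EtCoh.pullPushAdj i).unit.app (EtCoh.const X (ZMod p)) ≫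
      (EtCoh.push i).map (EtCore.pullConst i (ZMod p)).hom) ≫ (EtCoh.push i).map (constMap Z p hZ) =
      constMap X p hX ≫ gaUnit i
    rw [Category.assoc, ← Functor.map_comp, h1, Functor.map_comp, ← Category.assoc]
    have h2 : (EtCoh.pullPushAdj i).unit.app (EtCoh.const X (ZMod p)) ≫
        (EtCoh.push i).map ((EtCoh.pull i).map (constMap X p hX)) =
        constMap X p hX ≫ (EtCoh.pullPushAdj i).unit.app (EtCoh.Ga X) :=
      ((EtCoh.pullPushAdj i).unit.naturality (constMap X p hX)).symm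
    rw [h2, Category.assoc, unit_gap]
  comm₂₃ := by
    have h1 := (asHomC p i hX hZ).comm₂₃
    change gap i ≫ asMap Z p hZ = (EtCoh.pull i).map (asMap X p hX) ≫ gap i at h1
    change gaUnit i ≫ (EtCoh.push i).map (asMap Z p hZ) = asMap X p hX ≫ gaUnit i
    have h2 : (EtCoh.pullPushAdj i).unit.app (EtCoh.Ga X) ≫
        (EtCoh.push i).map ((EtCoh.pull i).map (asMap X p hX)) =
        asMap X p hX ≫ (EtCoh.pullPushAdj i).unit.app (EtCoh.Ga X) :=
      ((EtCoh.pullPushAdj i).unit.naturality (asMap X p hX)).symm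
    rw [← unit_gap, Category.assoc, ← Functor.map_comp, h1, Functor.map_comp, ← Category.assoc, h2,
      Category.assoc]

theorem asPush_τ₁ (hX : (p : Γ(X, ⊤)) = 0) (hZ : (p : Γ(Z, ⊤)) = 0) :
    (asPush p i hX hZ).τ₁ = cstUnit p i := rfl

theorem asPush_τ₃ (hX : (p : Γ(X, ⊤)) = 0) (hZ : (p : Γ(Z, ⊤)) = 0) :
    (asPush p i hX hZ).τ₃ = gaUnit i := rfl

variable [IsClosedImmersion i]

/-- `i_* AS_Z` is short exact. -/
theorem shortExact_push (hX : (p : Γ(X, ⊤)) = 0) (hZ : (p : Γ(Z, ⊤)) = 0) :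
    ((asComplex Z p hZ).map (EtCoh.push i)).ShortExact := by
  have hZse := shortExact Z p hZ
  have := hZse.mono_f
  have h1 : ((asComplex Z p hZ).map (EtCoh.push i)).Exact :=
    hZse.exact.map_of_mono_of_preservesKernel (EtCoh.push i) inferInstance inferInstance
  have h2 : Mono ((asComplex Z p hZ).map (EtCoh.push i)).f :=
    inferInstanceAs (Mono ((EtCoh.push i).map (asComplex Z p hZ).f))
  have h3 : Epi ((asComplex Z p hZ).map (EtCoh.push i)).g := by
    have e1 : gaUnit i ≫ ((asComplex Z p hZ).map (EtCoh.push i)).g = asMap X p hX ≫ gaUnit i :=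
      (asPush p i hX hZ).comm₂₃
    have e2 : Epi (gaUnit i) := epi_gaUnit i
    have e3 : Epi (asMap X p hX) := epi_asMap X p hX
    have e5 : Epi (asMap X p hX ≫ gaUnit i) := @epi_comp _ _ _ _ _ _ e3 _ e2
    have e4 : Epi (gaUnit i ≫ ((asComplex Z p hZ).map (EtCoh.push i)).g) := by
      rw [e1]
      exact e5
    exact epi_of_epi (gaUnit i) _
  exact { exact := h1, mono_f := h2, epi_g := h3 }

theorem counit_cstUnit {U : Scheme.{u}} (j : U ⟶ X) [IsOpenImmersion j] [AlgebraicGeometry.Etale j]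
    [EtShriek.JCont j] (hc : IsCompl (Set.range i) (Set.range j)) :
    (EtShriek.extZeroAdj j).counit.app (EtCoh.const X (ZMod p)) ≫ cstUnit p i = 0 := by
  have hz := Groth.Agent.Etcore.OpenClosed.counit_unit i j hc.disjoint (EtCoh.const X (ZMod p))
  refine (Category.assoc _ _ _).symm.trans ?_
  refine (congrArg (fun t => t ≫ (EtCoh.push i).map (EtCore.pullConst i (ZMod p)).hom) hz).trans ?_
  exact zero_comp

/-- `0 → j_! j⁻¹ ℤ/p → ℤ/p → i_* ℤ/p → 0`. -/
theorem shortExact_const {U : Scheme.{u}}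
    (j : U ⟶ X) [IsOpenImmersion j] [AlgebraicGeometry.Etale j] [EtShriek.JCont j]
    (hc : IsCompl (Set.range i) (Set.range j)) :
    (ShortComplex.mk ((EtShriek.extZeroAdj j).counit.app (EtCoh.const X (ZMod p)))
      (cstUnit p i) (counit_cstUnit p i j hc)).ShortExact := by
  have h := Groth.Agent.Etcore.OpenClosed.shortExact i j hc (EtCoh.const X (ZMod p))
  refine ShortComplex.shortExact_of_iso ?_ h
  exact ShortComplex.isoMk (Iso.refl _) (Iso.refl _)
    ((EtCoh.push i).mapIso (EtCore.pullConst i (ZMod p)))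
    ((Category.id_comp _).trans (Category.comp_id _).symm)
    (Category.id_comp _)

end as

end Groth.Agent.Etbc.H502.AsClosed
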