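import Mathlib.Algebra.Homology.DerivedCategory.Ext.ExactSequences
import Mathlib.Algebra.Homology.DerivedCategory.Ext.ExtClass

/-!
# Vanishing of `Ext` into the kernel of a morphism of short exact sequences

`subsingleton_ext_ker`: for a morphism `f : S ⟶ S'` of short exact sequences and short exact
`K₁ → S.X₁ → S'.X₁`, `K₂ → S.X₂ → S'.X₂`, vanishing of `Ext^q(P, S.X₂)`, `Ext^q(P, S.X₃)`,
`Ext^q(P, K₂)`, `Ext^q(P, S'.X₂)` for `q > d` gives `Ext^q(P, K₁) = 0` for `q > d + 1`.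
-/

set_option autoImplicit false
universe w v u
open CategoryTheory CategoryTheory.Limits Abelian

namespace Groth.Agent.Etbc.H502.ExtKer

variable {C : Type u} [Category.{v} C] [Abelian C] [HasExt.{w} C]

theorem subsingleton_ext_ker (P : C) (d : ℕ) {S S' : ShortComplex C} (hS : S.ShortExact)
    (hS' : S'.ShortExact) (f : S ⟶ S') {K₁ K₃ : C} {i₁ : K₁ ⟶ S.X₁} {z₁ : i₁ ≫ f.τ₁ = 0}
    (h₁ : (ShortComplex.mk i₁ f.τ₁ z₁).ShortExact) {i₃ : K₃ ⟶ S.X₃} {z₃ : i₃ ≫ f.τ₃ = 0}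
    (h₃ : (ShortComplex.mk i₃ f.τ₃ z₃).ShortExact)
    (h2 : ∀ q, d < q → Subsingleton (Ext P S.X₂ q))
    (h3 : ∀ q, d < q → Subsingleton (Ext P S.X₃ q))
    (h2' : ∀ q, d < q → Subsingleton (Ext P S'.X₂ q))
    (hK : ∀ q, d < q → Subsingleton (Ext P K₃ q)) (q : ℕ) (hq : d + 1 < q) :
    Subsingleton (Ext P K₁ q) := by
  obtain ⟨m, rfl⟩ : ∃ m, q = m + 1 := ⟨q - 1, by omega⟩
  -- `Ext^{q}(P, S.X₁) = 0` for `q > d + 1`
  have hA : Subsingleton (Ext P S.X₁ (m + 1)) := by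
    refine subsingleton_of_forall_eq 0 fun x => ?_
    have := h2 (m + 1) (by omega)
    have := h3 m (by omega)
    obtain ⟨y, rfl⟩ := Ext.covariant_sequence_exact₁ P hS x (Subsingleton.elim _ _) rfl
    rw [Subsingleton.elim y 0, Ext.zero_comp]
  refine subsingleton_of_forall_eq 0 fun x => ?_
  obtain ⟨y, rfl⟩ := Ext.covariant_sequence_exact₁ P h₁ x (Subsingleton.elim _ _) rfl
  -- lift `y` to `Ext^{m}(P, S.X₁)`
  obtain ⟨z, hz⟩ : ∃ z : Ext P S.X₁ m, z.comp (Ext.mk₀ f.τ₁) (add_zero m) = y := by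
    obtain ⟨n, rfl⟩ : ∃ n, m = n + 1 := ⟨m - 1, by omega⟩
    have := h2' (n + 1) (by omega)
    obtain ⟨a, rfl⟩ := Ext.covariant_sequence_exact₁ P hS' y (Subsingleton.elim _ _) rfl
    have := hK (n + 1) (by omega)
    obtain ⟨b, rfl⟩ := Ext.covariant_sequence_exact₃ P h₃ a rfl (Subsingleton.elim _ _)
    refine ⟨b.comp hS.extClass rfl, ?_⟩
    rw [Ext.comp_assoc_of_third_deg_zero, Ext.comp_assoc_of_second_deg_zero,
      ShortComplex.ShortExact.extClass_naturality hS hS' f]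
  rw [← hz, Ext.comp_assoc_of_second_deg_zero]
  erw [h₁.comp_extClass]
  rw [Ext.comp_zero]

end Groth.Agent.Etbc.H502.ExtKer
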