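import Groth.Agent.Etbc.H502.KerBC
import Groth.Agent.Etbc.H187.GaFun
import Groth.Agent.Etbase.GaQC

/-!
# The étale sheaf of functions vanishing on a closed subscheme

* `sect_exact`: left exactness of sections on the small étale site;
* `IdA i`: the kernel of `G_a,X ⟶ i_* G_a,Z`;
* `qc`: it is quasi-coherent, for `i` affine.
-/

set_option autoImplicit false
universe u
open CategoryTheory CategoryTheory.Limits AlgebraicGeometry Opposite

namespace Groth.Agent.Etbc.H502.IdealEt

open Groth.Agent.Etbc.H187.GaFun Groth.Agent.Etbase.EtQC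

variable {X Z : Scheme.{u}}

section eval

/-- Sections over an étale scheme. -/
noncomputable abbrev secF (W : X.Etale) : EtCoh.Ab X ⥤ AddCommGrpCat.{u + 1} :=
  sheafToPresheaf X.smallEtaleTopology AddCommGrpCat.{u + 1} ⋙ (evaluation _ _).obj (op W)

theorem sect_exact {F G H : EtCoh.Ab X} (f : F ⟶ G) (g : G ⟶ H) (w : f ≫ g = 0) [Mono f]
    (hS : (ShortComplex.mk f g w).Exact) (W : X.Etale) (s : EtCoh.sect G W)
    (hs : g.hom.app (op W) s = 0) : ∃ t : EtCoh.sect F W, f.hom.app (op W) t = s := by
  have h1 := hS.map_of_mono_of_preservesKernel (secF W) inferInstance inferInstance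
  exact (ShortComplex.ab_exact_iff _).1 h1 s hs

theorem sect_injective {F G : EtCoh.Ab X} (f : F ⟶ G) [Mono f] (W : X.Etale) :
    Function.Injective (f.hom.app (op W)) := by
  have h1 : Mono ((secF W).map f) := inferInstance
  exact (AddCommGrpCat.mono_iff_injective _).1 h1

end eval

variable (i : Z ⟶ X)

/-- The étale sheaf of functions vanishing on `Z`. -/
noncomputable def IdA : EtCoh.Ab X := kernel (gaUnit i)

/-- The inclusion. -/
noncomputable def idι : IdA i ⟶ EtCoh.Ga X := kernel.ι (gaUnit i)

instance : Mono (idι i) := inferInstanceAs (Mono (kernel.ι (gaUnit i)))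

theorem idι_comp : idι i ≫ gaUnit i = 0 := kernel.condition _

theorem exact_idι : (ShortComplex.mk (idι i) (gaUnit i) (idι_comp i)).Exact :=
  ShortComplex.exact_of_f_is_kernel _ (kernelIsKernel _)

/-- The function underlying a section. -/
noncomputable def val (W : X.Etale) (s : EtCoh.sect (IdA i) W) : Γ(W.left, ⊤) :=
  fnOf (X := X) (U := W) ((idι i).hom.app (op W) s)

theorem val_add (W : X.Etale) (s t : EtCoh.sect (IdA i) W) :
    val i W (s + t) = val i W s + val i W t := by
  unfold val
  rw [map_add]
  rfl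

theorem val_injective (W : X.Etale) : Function.Injective (val i W) := by
  intro s t h
  exact sect_injective (idι i) W (fnOf_injective h)

theorem val_mem (W : X.Etale) (s : EtCoh.sect (IdA i) W) :
    val i W s ∈ RingHom.ker (bcFst i W).appTop.hom := by
  rw [RingHom.mem_ker]
  have h1 : (gaUnit i).hom.app (op W) ((idι i).hom.app (op W) s) = 0 := by
    have h2 := congrArg (fun φ => (φ.hom.app (op W)) s) (idι_comp i)
    exact h2
  have h3 := fnOf_gaUnit i W ((idι i).hom.app (op W) s)
  rw [h1] at h3
  exact h3.symm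

theorem exists_val_eq (W : X.Etale) (a : Γ(W.left, ⊤)) (ha : (bcFst i W).appTop.hom a = 0) :
    ∃ s : EtCoh.sect (IdA i) W, val i W s = a := by
  have h1 : (gaUnit i).hom.app (op W) (ofFn (X := X) (U := W) a) = 0 := by
    apply fnOf_injective (X := Z) (U := (EtCoh.bc i).obj W)
    rw [fnOf_gaUnit, fnOf_ofFn, ha]
    rfl
  obtain ⟨t, ht⟩ := sect_exact (idι i) (gaUnit i) (idι_comp i) (exact_idι i) W _ h1
  exact ⟨t, by rw [val, ht, fnOf_ofFn]⟩

theorem val_map {W W' : X.Etale} (g : W' ⟶ W) (s : EtCoh.sect (IdA i) W) :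
    val i W' ((IdA i).obj.map g.op s) = g.left.appTop.hom (val i W s) := by
  have h1 : (idι i).hom.app (op W') ((IdA i).obj.map g.op s) =
      (EtCoh.Ga X).obj.map g.op ((idι i).hom.app (op W) s) :=
    congrArg (fun φ => φ s) ((idι i).hom.naturality g.op)
  rw [val, h1, fnOf_map]
  rfl

/-- The function underlying a section, as a homomorphism to the ideal. -/
noncomputable def valHom (W : X.Etale) :
    EtCoh.sect (IdA i) W →+ RingHom.ker (bcFst i W).appTop.hom where
  toFun s := ⟨val i W s, val_mem i W s⟩
  map_zero' := by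
    apply Subtype.ext
    change val i W 0 = 0
    unfold val
    rw [map_zero]
    rfl
  map_add' s t := Subtype.ext (val_add i W s t)

/-- Sections of the sheaf as an ideal. -/
noncomputable def eW (W : X.Etale) :
    EtCoh.sect (IdA i) W ≃+ RingHom.ker (bcFst i W).appTop.hom :=
  AddEquiv.ofBijective (valHom i W)
    ⟨fun s t h => val_injective i W (congrArg Subtype.val h), fun a => by
      obtain ⟨s, hs⟩ := exists_val_eq i W a.1 ((RingHom.mem_ker).1 a.2)
      exact ⟨s, Subtype.ext hs⟩⟩

theorem coe_eW (W : X.Etale) (s : EtCoh.sect (IdA i) W) : (eW i W s : Γ(W.left, ⊤)) = val i W s :=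
  rfl

/-- The cartesian square of base changes to `Z`. -/
theorem isPullback_bc {W W' : X.Etale} (g : W' ⟶ W) :
    IsPullback (bcFst i W') ((EtCoh.bc i).map g).left g.left (bcFst i W) := by
  have h1 : IsPullback (pullback.fst W.hom i) (pullback.snd W.hom i) W.hom i :=
    IsPullback.of_hasPullback _ _
  have h2 : IsPullback (pullback.fst W'.hom i) (pullback.snd W'.hom i) W'.hom i :=
    IsPullback.of_hasPullback _ _
  have e1 : ((EtCoh.bc i).map g).left ≫ pullback.snd W.hom i = pullback.snd W'.hom i :=
    pullback.lift_snd _ _ _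
  have e2 : g.left ≫ W.hom = W'.hom := MorphismProperty.Over.w g
  have h3 : IsPullback (((EtCoh.bc i).map g).left ≫ pullback.snd W.hom i) (bcFst i W') i
      (g.left ≫ W.hom) := by
    rw [e1, e2]
    exact h2.flip
  exact (IsPullback.of_right h3 (bcFst_nat i g) h1.flip).flip

/-- The étale sheaf of functions vanishing on `Z` is quasi-coherent. -/
noncomputable def qc [IsAffineHom i] : QC (IdA i).obj where
  mod W := (eW i W).module Γ(W.left, ⊤)
  isBC {W' W} g hW' hW := by
    have sq := isPullback_bc i g
    have : IsAffine W.left := hW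
    have : IsAffine W'.left := hW'
    have hah : IsAffineHom (bcFst i W) :=
      MorphismProperty.pullback_fst (P := @IsAffineHom) _ _ inferInstance
    have hA : IsAffine ((EtCoh.bc i).obj W).left := isAffine_of_isAffineHom (bcFst i W)
    have hpo := isPushout_appTop_of_isPullback sq
    have comm : (bcFst i W').appTop.hom.comp g.left.appTop.hom =
        ((EtCoh.bc i).map g).left.appTop.hom.comp (bcFst i W).appTop.hom := by
      have := hpo.w
      exact congrArg (fun z => z.hom) this
    refine KerBC.isBC_ker g.left.appTop.hom (bcFst i W).appTop.hom (bcFst i W').appTop.hom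
      ((EtCoh.bc i).map g).left.appTop.hom comm ?_ ?_ (eW i W) (eW i W') _ (val_map i g)
    · let := g.left.appTop.hom.toAlgebra
      let := (bcFst i W).appTop.hom.toAlgebra
      let := ((EtCoh.bc i).map g).left.appTop.hom.toAlgebra
      let := (bcFst i W').appTop.hom.toAlgebra
      let := ((bcFst i W').appTop.hom.comp g.left.appTop.hom).toAlgebra
      have : IsScalarTower Γ(W.left, ⊤) Γ(W'.left, ⊤) Γ(((EtCoh.bc i).obj W').left, ⊤) :=
        IsScalarTower.of_algebraMap_eq' rfl
      have : IsScalarTower Γ(W.left, ⊤) Γ(((EtCoh.bc i).obj W).left, ⊤)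
        Γ(((EtCoh.bc i).obj W').left, ⊤) := IsScalarTower.of_algebraMap_eq' comm
      exact (CommRingCat.isPushout_iff_isPushout (R := Γ(W.left, ⊤))
        (R' := Γ(W'.left, ⊤)) (S := Γ(((EtCoh.bc i).obj W).left, ⊤))
        (S' := Γ(((EtCoh.bc i).obj W').left, ⊤))).1 hpo
    · have hfl : Flat g.left := inferInstance
      exact Scheme.Hom.flat_appTop g.left

theorem etAcyc [IsAffineHom i] : Groth.Agent.Etbase.EtCartan.EtAcyc (IdA i).obj := (qc i).etAcyc

end Groth.Agent.Etbc.H502.IdealEt
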