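import Groth.Agent.Etbc.H502.IdealEt
import Groth.Agent.Etbase.GaZar
import Groth.Agent.PerfA.IdealModule

/-!
# Étale and Zariski cohomology of an ideal sheaf

For a closed subscheme `i : Z ⟶ X` with ideal `I`, `H^n(X_et, IdA i) = H^n(X, I)`.
-/

set_option autoImplicit false
universe u
open CategoryTheory CategoryTheory.Limits AlgebraicGeometry Opposite TopologicalSpace

namespace Groth.Agent.Etbc.H502.IdealZar

open Groth.Agent.Etbc.H187.GaFun Groth.Agent.Etbc.H502.IdealEt Groth.Agent.Etbase.ZarEt
  Groth.Agent.Etbase.ZarEtCoh Groth.Agent.Etbase.ZarEtH Groth.Agent.Etbase.EtCartan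

variable {X Z : Scheme.{u}}

/-- The function on `V ×_X Z` defined by a function `a` on `V` vanishes if and only if `a` vanishes on
`i⁻¹ V`. -/
theorem fst_topIso_eq_zero_iff (i : Z ⟶ X) (V : X.Opens) (a : Γ(X, V)) :
    (pullback.fst V.ι i).appTop.hom (V.topIso.inv.hom a) = 0 ↔ (i.app V).hom a = 0 := by
  have h1 : pullback.fst V.ι i ≫ V.ι = pullback.snd V.ι i ≫ i := pullback.condition
  have hr : (pullback.snd V.ι i).opensRange = i ⁻¹ᵁ V := by
    rw [Scheme.Hom.opensRange_pullbackSnd, Scheme.Opens.opensRange_ι]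
  have hle : (⊤ : (pullback V.ι i).Opens) ≤ (pullback.snd V.ι i) ⁻¹ᵁ (i ⁻¹ᵁ V) := by
    rw [← hr]
    intro x _
    exact ⟨x, rfl⟩
  have hle1 : (⊤ : (pullback V.ι i).Opens) ≤ (pullback.fst V.ι i ≫ V.ι) ⁻¹ᵁ V := by
    rw [h1]
    exact hle
  have hV : (⊤ : V.toScheme.Opens) ≤ V.ι ⁻¹ᵁ V := by
    rw [Scheme.Opens.ι_preimage_self]
  have e1 : V.topIso.inv = V.ι.appLE V ⊤ hV := by
    rw [Scheme.Opens.topIso_inv, Scheme.Opens.ι_appLE]
    rfl
  have e2 : V.topIso.inv ≫ (pullback.fst V.ι i).appTop =
      i.app V ≫ (pullback.snd V.ι i).appLE (i ⁻¹ᵁ V) ⊤ hle := by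
    have e4 : (pullback.fst V.ι i).appTop = (pullback.fst V.ι i).appLE ⊤ ⊤ le_rfl :=
      Scheme.Hom.app_eq_appLE _
    rw [e1, e4, Scheme.Hom.appLE_comp_appLE, Scheme.Hom.app_eq_appLE, Scheme.Hom.appLE_comp_appLE]
    simp only [h1]
  have e3 : (pullback.fst V.ι i).appTop.hom (V.topIso.inv.hom a) =
      ((pullback.snd V.ι i).appLE (i ⁻¹ᵁ V) ⊤ hle).hom ((i.app V).hom a) :=
    congrArg (fun t => t.hom a) e2
  have hinj : Function.Injective ((pullback.snd V.ι i).appLE (i ⁻¹ᵁ V) ⊤ hle).hom := by
    have hiso : IsIso ((pullback.snd V.ι i).app (i ⁻¹ᵁ V)) :=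
      Scheme.Hom.isIso_app (pullback.snd V.ι i) _ hr.ge
    have hpre : (pullback.snd V.ι i) ⁻¹ᵁ (i ⁻¹ᵁ V) = ⊤ := top_le_iff.1 hle
    have : IsIso ((pullback.snd V.ι i).appLE (i ⁻¹ᵁ V) ⊤ hle) := by
      rw [Scheme.Hom.appLE]
      have : IsIso (homOfLE hle) := by
        have : homOfLE hle = eqToHom hpre.symm := Subsingleton.elim _ _
        rw [this]
        infer_instance
      infer_instance
    exact ((ConcreteCategory.isIso_iff_bijective _).1 this).1
  rw [e3]
  exact ⟨fun h => hinj (by rw [h, map_zero]), fun h => by rw [h, map_zero]⟩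

variable (I : X.IdealSheafData)

open Groth.Agent.PerfA Groth.Agent.CohqB.QC2 Groth.Agent.CohqB.FiniteType2

/-- A function in the ideal as a section of the étale sheaf. -/
theorem exists_sect (V : X.Opens) (x : Γ(ClSub.idealMod I, V)) :
    ∃ s : EtCoh.sect (IdA I.subschemeι) ((EtZar.zarToEt X).obj V),
      IdealEt.val I.subschemeι _ s = V.topIso.inv.hom (IdealModule.val I x) :=
  exists_val_eq I.subschemeι ((EtZar.zarToEt X).obj V) _
    ((fst_topIso_eq_zero_iff I.subschemeι V _).2
      ((IdealModule.exact_app I V (IdealModule.val I x)).2 ⟨x, rfl⟩))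

theorem val_add' {V : X.Opens} (x y : Γ(ClSub.idealMod I, V)) :
    IdealModule.val I (x + y) = IdealModule.val I x + IdealModule.val I y :=
  (appLinear (ClSub.idealModι I) V).map_add x y

/-- The comparison map on sections. -/
noncomputable def θV (V : X.Opens) :
    ULift.{u + 1} Γ(ClSub.idealMod I, V) →+
      EtCoh.sect (IdA I.subschemeι) ((EtZar.zarToEt X).obj V) :=
  AddMonoidHom.mk' (fun x => (exists_sect I V x.down).choose) (fun x y => by
    apply IdealEt.val_injective
    rw [IdealEt.val_add, (exists_sect I V x.down).choose_spec, (exists_sect I V y.down).choose_spec,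
      (exists_sect I V (x + y).down).choose_spec]
    exact (congrArg V.topIso.inv.hom (val_add' I x.down y.down)).trans
      (map_add V.topIso.inv.hom _ _))

theorem val_θV (V : X.Opens) (x : ULift.{u + 1} Γ(ClSub.idealMod I, V)) :
    IdealEt.val I.subschemeι _ (θV I V x) = V.topIso.inv.hom (IdealModule.val I x.down) :=
  (exists_sect I V x.down).choose_spec

theorem topIso_inv_bijective (V : X.Opens) : Function.Bijective V.topIso.inv.hom :=
  (ConcreteCategory.isIso_iff_bijective V.topIso.inv).1 inferInstance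

theorem θV_bijective (V : X.Opens) : Function.Bijective (θV I V) := by
  constructor
  · intro x y h
    apply ULift.down_injective
    apply IdealModule.val_injective I V
    apply (topIso_inv_bijective V).1
    rw [← val_θV, ← val_θV, h]
  · intro s
    obtain ⟨a, ha⟩ := (topIso_inv_bijective V).2 (IdealEt.val I.subschemeι _ s)
    have h1 : (pullback.fst V.ι I.subschemeι).appTop.hom (V.topIso.inv.hom a) = 0 := by
      rw [ha]
      exact (RingHom.mem_ker).1 (IdealEt.val_mem I.subschemeι _ s)
    obtain ⟨x, hx⟩ := (IdealModule.exact_app I V a).1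
      ((fst_topIso_eq_zero_iff I.subschemeι V a).1 h1)
    refine ⟨ULift.up x, ?_⟩
    apply IdealEt.val_injective
    rw [val_θV, ← ha]
    exact congrArg V.topIso.inv.hom hx

/-- The comparison `ul I → ε_* (IdA i)`. -/
noncomputable def θ :
    (ulZ X).obj (Coh.toAb (ClSub.idealMod I)) ⟶ (EtZar.resZar X).obj (IdA I.subschemeι) where
  hom :=
    { app := fun V => AddCommGrpCat.ofHom (θV I V.unop)
      naturality := by
        intro V W i
        apply AddCommGrpCat.hom_ext
        apply AddMonoidHom.ext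
        intro x
        apply IdealEt.val_injective I.subschemeι ((EtZar.zarToEt X).obj W.unop)
        refine (val_θV I W.unop _).trans ?_
        refine Eq.trans ?_ (IdealEt.val_map I.subschemeι ((EtZar.zarToEt X).map i.unop)
          (θV I V.unop x)).symm
        rw [val_θV]
        refine Eq.trans ?_ (Groth.Agent.Etbase.GaZar.topIso_inv_naturality X i.unop.le
          (IdealModule.val I x.down)).symm
        exact congrArg (Scheme.Opens.topIso W.unop).inv.hom
          (IdealModule.val_res I i.unop.le x.down) }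

instance isIso_θ : IsIso (θ I) := by
  have h : IsIso ((sheafToPresheaf (Opens.grothendieckTopology X) AddCommGrpCat.{u + 1}).map (θ I)) := by
    rw [NatTrans.isIso_iff_isIso_app]
    intro V
    rw [ConcreteCategory.isIso_iff_bijective]
    exact θV_bijective I V.unop
  exact isIso_of_reflects_iso (θ I) (sheafToPresheaf (Opens.grothendieckTopology X) AddCommGrpCat.{u + 1})

/-- Vanishing of Zariski cohomology of the ideal gives vanishing of étale cohomology. -/
theorem van (n : ℕ) (h : Subsingleton (Coh.HH X (ClSub.idealMod I) n)) :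
    Subsingleton (EtCoh.H X (IdA I.subschemeι) n) :=
  (compH_bijective (θ I) (IdealEt.etAcyc I.subschemeι) n).2.subsingleton

end Groth.Agent.Etbc.H502.IdealZar
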