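import Groth.Agent.Etbase.FFExact
import Mathlib.RingTheory.Flat.IsBaseChange
import Mathlib.RingTheory.RingHom.Flat

/-!
# The kernel of a ring homomorphism commutes with flat base change

`isBC_ker`: for a pushout square `A → A'`, `B → B'` of commutative rings with `A → B` flat, the kernel
of `B → B'` is the base change of the kernel of `A → A'`, in the form `FFExact.IsBC` for groups
transported along additive equivalences.
-/

set_option autoImplicit false

open TensorProduct

namespace Groth.Agent.Etbc.H502.KerBC

open Groth.Agent.Etbase.FFExact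

/-- Kernels commute with flat base change. -/
theorem isBaseChange_ker {A B A' B' : Type*} [CommRing A] [CommRing B] [CommRing A'] [CommRing B']
    [Algebra A B] [Algebra A A'] [Algebra A B'] [Algebra A' B'] [Algebra B B']
    [IsScalarTower A A' B'] [IsScalarTower A B B'] [Algebra.IsPushout A B A' B']
    [Module.Flat A B]
    (k : RingHom.ker (algebraMap A A') →ₗ[A] RingHom.ker (algebraMap B B'))
    (hk : ∀ x, ((k x : B)) = algebraMap A B x) : IsBaseChange B k := by
  have h2 : IsBaseChange B (Algebra.linearMap A B) := IsBaseChange.linearMap A B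
  have h3 : IsBaseChange B (IsScalarTower.toAlgHom A A' B').toLinearMap := Algebra.IsPushout.out
  refine IsBaseChange.of_left_exact B k (Algebra.linearMap A B)
    (IsScalarTower.toAlgHom A A' B').toLinearMap
    (f := (RingHom.ker (algebraMap A A')).subtype) (g := Algebra.linearMap A A')
    (f' := (RingHom.ker (algebraMap B B')).subtype) (g' := Algebra.linearMap B B')
    ?_ ?_ h2 h3 ?_ Subtype.val_injective ?_ Subtype.val_injective
  · ext x
    exact (hk x).symm
  · ext
    simp
  · intro x
    constructor
    · intro hx
      exact ⟨⟨x, hx⟩, rfl⟩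
    · rintro ⟨y, rfl⟩
      exact y.2
  · intro x
    constructor
    · intro hx
      exact ⟨⟨x, hx⟩, rfl⟩
    · rintro ⟨y, rfl⟩
      exact y.2

/-- The same for ring homomorphisms and groups transported along additive equivalences. -/
theorem isBC_ker {A B A' B' : Type*} [CommRing A] [CommRing B] [CommRing A'] [CommRing B']
    (φ : A →+* B) (σ : A →+* A') (σ' : B →+* B') (φ' : A' →+* B')
    (comm : σ'.comp φ = φ'.comp σ)
    (hpush : letI := φ.toAlgebra; letI := σ.toAlgebra; letI := φ'.toAlgebra; letI := σ'.toAlgebra
      letI := (σ'.comp φ).toAlgebra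
      haveI : IsScalarTower A B B' := IsScalarTower.of_algebraMap_eq' rfl
      haveI : IsScalarTower A A' B' := IsScalarTower.of_algebraMap_eq' comm
      Algebra.IsPushout A B A' B')
    (hflat : φ.Flat)
    {M M' : Type*} [AddCommGroup M] [AddCommGroup M']
    (e : M ≃+ RingHom.ker σ) (e' : M' ≃+ RingHom.ker σ') (ψ : M →+ M')
    (hψ : ∀ x, (e' (ψ x) : B) = φ (e x)) :
    letI := e.module A; letI := e'.module B
    IsBC φ ψ := by
  let := φ.toAlgebra
  let := σ.toAlgebra
  let := φ'.toAlgebra
  let := σ'.toAlgebra
  let := (σ'.comp φ).toAlgebra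
  have : IsScalarTower A B B' := IsScalarTower.of_algebraMap_eq' rfl
  have : IsScalarTower A A' B' := IsScalarTower.of_algebraMap_eq' comm
  have : Module.Flat A B := hflat
  have : Algebra.IsPushout A B A' B' := hpush
  let k : RingHom.ker σ →ₗ[A] RingHom.ker σ' :=
    { toFun := fun x => ⟨φ x, by
        rw [RingHom.mem_ker]
        have h := congrArg (fun t => t (x : A)) comm
        refine h.trans ?_
        change φ' (σ x) = 0
        rw [(RingHom.mem_ker).1 x.2, map_zero]⟩
      map_add' := fun x y => Subtype.ext (map_add φ _ _)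
      map_smul' := fun a x => Subtype.ext (by
        change φ (a * x) = φ a * φ x
        rw [map_mul]) }
  have hk : IsBaseChange B k := isBaseChange_ker (A := A) (B := B) (A' := A') (B' := B') k
    fun x => rfl
  letI := e.module A
  letI := e'.module B
  have he : ∀ (a : A) (x : M), e (a • x) = a • e x := fun a x => e.apply_symm_apply _
  have he' : ∀ (b : B) (x : M'), e' (b • x) = b • e' x := fun a x => e'.apply_symm_apply _
  have hψk : ∀ x, e' (ψ x) = k (e x) := fun x => Subtype.ext (hψ x)
  have h1 : ∀ (a : A) (m : M), ψ (a • m) = φ a • ψ m := by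
    intro a m
    apply e'.injective
    rw [hψk, he, he', hψk, k.map_smul]
    rfl
  refine ⟨h1, ?_⟩
  let : Module A M' := Module.compHom _ φ
  have : IsScalarTower A B M' := ⟨fun a b m => by
      change (φ a * b) • m = φ a • b • m
      rw [mul_smul]⟩
  let el : M ≃ₗ[A] RingHom.ker σ := { e with map_smul' := he }
  let el' : M' ≃ₗ[B] RingHom.ker σ' := { e' with map_smul' := he' }
  let E : TensorProduct A B M ≃ₗ[B] M' :=
    (TensorProduct.AlgebraTensorModule.congr (LinearEquiv.refl B B) el) ≪≫ₗ hk.equiv ≪≫ₗ el'.symm
  refine IsBaseChange.of_equiv E ?_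
  intro x
  apply e'.injective
  change e' (e'.symm (hk.equiv (1 ⊗ₜ[A] e x))) = e' (ψ x)
  rw [e'.apply_symm_apply, hψk, hk.equiv_tmul, one_smul]

end Groth.Agent.Etbc.H502.KerBC
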