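import Groth.Agent.Etbc.H502.AsClosed
import Groth.Agent.Etbc.H502.IdealZar
import Groth.Agent.Etbc.H502.ExtKer
import Groth.Agent.EtpbcA.CdEtLeray
import Groth.Agent.Sga4h.EtaleRes
import Groth.Agent.PerfA.QCohSerre

/-!
# Vanishing of `H^q(T, j_! ℤ/p)` in terms of quasi-coherent cohomology

`H_extZero`: if `p = 0` on `T` and `H^q(T, M) = 0` for all quasi-coherent `M` and `q > d`, then
`H^q(T_et, j_! ℤ/p) = 0` for `q > d + 1` and every open immersion `j`.
-/

set_option autoImplicit false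
universe u
open CategoryTheory CategoryTheory.Limits AlgebraicGeometry Opposite TopologicalSpace

namespace Groth.Agent.Etbc.H502.ShriekAS

open Groth.Agent.Etbc.H187.GaFun Groth.Agent.Etbc.H502.IdealEt Groth.Agent.Etbc.H502.AsClosed
  Groth.Agent.CurvesA Groth.Agent.CurvesA.ArtinSchreier Groth.Agent.Etcore.EtInst
  Groth.Agent.EtpbcA
open scoped Groth.Agent.Etcore.EtInst Groth.Agent.Etcore.HC

/-- Quasi-coherent cohomology vanishes above degree `d`. -/
def VanQC (X : Scheme.{u}) (d : ℕ) : Prop :=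
  ∀ M : X.Modules, Coh.IsQCoh M → ∀ q, d < q → Subsingleton (Coh.HH X M q)

variable {X : Scheme.{u}}

theorem van_ga {d : ℕ} (hv : VanQC X d) (q : ℕ) (hq : d < q) :
    Subsingleton (HH X (EtCoh.Ga X) q) := by
  have h := hv (Coh.structureModule X) (PerfA.QCohSerre.isQCoh_unit X) q hq
  exact (Groth.Agent.Etbase.GaZar.gaEquiv X q).symm.subsingleton

theorem van_ideal {d : ℕ} (hv : VanQC X d) (I : X.IdealSheafData) (q : ℕ) (hq : d < q) :
    Subsingleton (HH X (IdA I.subschemeι) q) :=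
  IdealZar.van I q (hv _ (PerfA.IdealModule.isQCoh_idealMod I) q hq)

theorem cast_eq_zero (p : ℕ) (hX : (p : Γ(X, ⊤)) = 0) {Z : Scheme.{u}} (i : Z ⟶ X) :
    (p : Γ(Z, ⊤)) = 0 := by
  have := congrArg i.appTop.hom hX
  rwa [map_natCast, map_zero] at this

variable (p : ℕ) [Fact p.Prime]

theorem H_extZero_aux {d : ℕ} (hv : VanQC X d) (hX : (p : Γ(X, ⊤)) = 0) (I : X.IdealSheafData)
    {U : Scheme.{u}} (j : U ⟶ X) [IsOpenImmersion j] [AlgebraicGeometry.Etale j] [EtShriek.JCont j]
    (hc : IsCompl (Set.range I.subschemeι) (Set.range j)) (q : ℕ) (hq : d + 1 < q) :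
    Subsingleton (HH X ((EtShriek.extZero j).obj
      ((EtShriek.restrAlong j).obj (EtCoh.const X (ZMod p)))) q) := by
  have hZ := cast_eq_zero p hX I.subschemeι
  have h1 := shortExact_const p I.subschemeι j hc
  have h3 := shortExact_ga I.subschemeι
  have hK : ∀ q, d < q → Subsingleton (HH X (IdA I.subschemeι) q) := van_ideal hv I
  have hG : ∀ q, d < q → Subsingleton (HH X (EtCoh.Ga X) q) := van_ga hv
  have hP : ∀ q, d < q → Subsingleton (HH X ((EtCoh.push I.subschemeι).obj
      (EtCoh.Ga I.subscheme)) q) := fun q hq =>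
    CdLeray.ext_right h3 (EtCoh.const X ℤ) q (hG q hq) (hK (q + 1) (by omega))
  exact ExtKer.subsingleton_ext_ker (EtCoh.const X ℤ) d (shortExact X p hX)
    (shortExact_push p I.subschemeι hX hZ) (asPush p I.subschemeι hX hZ) h1 h3 hG hG hP hK q hq

/-- **Vanishing of `H^q(X, j_! ℤ/p)`** for an open immersion `j`. -/
theorem H_extZero {d : ℕ} (hv : VanQC X d) (hX : (p : Γ(X, ⊤)) = 0)
    {U : Scheme.{u}} (j : U ⟶ X) [IsOpenImmersion j] (q : ℕ) (hq : d + 1 < q) :
    Subsingleton (EtCoh.H X ((EtShriek.extZero j).obj (EtCoh.const U (ZMod p))) q) := by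
  let C : TopologicalSpace.Closeds X :=
    ⟨(Set.range j)ᶜ, (IsOpenImmersion.isOpen_range j).isClosed_compl⟩
  let I := Scheme.IdealSheafData.vanishingIdeal C
  have hc : IsCompl (Set.range I.subschemeι) (Set.range j) := by
    rw [Scheme.IdealSheafData.range_subschemeι, Scheme.IdealSheafData.coe_support_vanishingIdeal]
    exact isCompl_compl.symm
  have h1 := H_extZero_aux p hv hX I j hc q hq
  refine CdEtLeray.H_subsingleton_of_iso ((EtShriek.extZero j).mapIso ?_) q h1
  exact ((Sga4h.EtaleRes.pullIsoRestr j).app _).symm ≪≫ EtCore.pullConst j (ZMod p)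

end Groth.Agent.Etbc.H502.ShriekAS
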